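import Cfsg.Agent.Lib.Helper28.TCCheck
import Cfsg.Agent.Lib.Helper56.RuK.Pres

set_option autoImplicit false
set_option linter.unusedVariables false

namespace Cfsg.Agent.Lib.Helper56.RuK

open Cfsg.Agent.Lib.Helper28.TC

noncomputable section

def hotA_c0 : ℕ := 0x0
def hotA : ℕ := hotA_c0
def coldA_c0 : ℕ := 0x0
def coldA : ℕ := coldA_c0
def treeT_c0 : ℕ := 0x2003a7e4cdf1ae7a2b9e0ad766b1d0ac72689c0a26e881b21f6a479a21d66271901c6286d819a5e269701a5a86562185646152175245d42164e45931954a45520154644d12124264901123e048f1913a244e21036440d20f3243cc18e2e238b18c2a230a08a2662490892282081871e21c70071a81462041661051041280c41030e80831820a4082002066041081028000000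
def treeT : ℕ := treeT_c0
def rowT_c0 : ℕ := 0x407ef9ebc76e9cb86ed9ab466c98b05eb96ac56a94a84e992a446890a03e78e9c3668c982e58a9426488901e3868c16284880e182840608080
def rowT : ℕ := rowT_c0

end

end Cfsg.Agent.Lib.Helper56.RuK
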