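import Cfsg.Agent.Lib.Helper28.TCCheck
import Cfsg.Agent.Lib.Helper56.RuK.Pres

set_option autoImplicit false
set_option linter.unusedVariables false

namespace Cfsg.Agent.Lib.Helper56.RuK

open Cfsg.Agent.Lib.Helper28.TC

noncomputable section

def hotE0_c0 : ℕ := 0x9e3b9c3e97319bc08f3a8cb09dc18ebd84b47fb77f387aa475a384396f9d6bad96bf8c3c651b63296b32601c5a26512262ae4a1a461859ab41167a36753550aa561e3a93399455a16f335fac64af49a8309145a72d9040a52915391f3a20240a30192d171c081a0d198e1307110623920e091b8f128c108b07030604068503020001
def hotE0 : ℕ := hotE0_c0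
def coldE0_c0 : ℕ := 0xea0000f60000c27006230000e60000be0000005006170000ce0000da3e082f00008e00008a6806170000720000b234062762062700006a0000a230082f00006e0000960000862c082f00006600005e42082f00005626062324082f24062700007600004a00004e1014330000002006230000001e062300004248062700003e0000000a06171206270000000000260e06271a062700001e00003208082f00001a00001606082f06062300000004062704062300000a02062700000000082f000247
def coldE0 : ℕ := coldE0_c0
def tfT0_c0 : ℕ := 0x3a7ac1fb95f01e336cdd1a2707163e766943136950ad325d5156ad149d244d03256b93904c3d2143c7c4982c1c60d0c148881c2c5020610080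
def tfT0 : ℕ := tfT0_c0

end

end Cfsg.Agent.Lib.Helper56.RuK
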