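import Cfsg.Agent.Lib.Helper28.TCCheck
import Cfsg.Agent.Lib.Helper56.RuK.Pres

set_option autoImplicit false
set_option linter.unusedVariables false

namespace Cfsg.Agent.Lib.Helper56.RuK

open Cfsg.Agent.Lib.Helper28.TC

noncomputable section

def hotE1_c0 : ℕ := 0x9f3f9a3c9ec1932f8e2e99c088ad87b783a381a9873a78ac7633739d76b56cb16c32681b92be8dbd883b78365c1f4e268138542447174daa421953a883393d9456a057215bab37927334349a67b0341c41a52e8f46a72b8d288b3d22260a371e208e1f082e1821112b16138c2815259316891e900b04090607850a87048204030081
def hotE1 : ℕ := hotE1_c0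
def coldE1_c0 : ℕ := 0xfa0000ee7404170000ba0000b638061b0000b20000da00008a0000a270062b0000ae5416330000720000d20000c22a0c3300006a00000000000000000054061b00007a0000963a0c3300008e00005a1c061b000062260a1b00000000004e3e022b0000823c0c330000460000000000660000001a061b2a041700003a18062b00003200002a12062b000026000000040c3300001e00000000004200000008062b000000000000060a1b00000000000e02061b04041702062b00000600000000024b
def coldE1 : ℕ := coldE1_c0
def tfT1_c0 : ℕ := 0x3e770172d7eb1b2250e55b238d183134f5e3a6a792b746594984ee099f40a88b332bcda41c9860a4224e8d0e5c81516509081e0c2840c04100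
def tfT1 : ℕ := tfT1_c0

end

end Cfsg.Agent.Lib.Helper56.RuK
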