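import Cfsg.Agent.Lib.Helper28.TCCheck
import Cfsg.Agent.Lib.Helper56.RuK.Pres

set_option autoImplicit false
set_option linter.unusedVariables false

namespace Cfsg.Agent.Lib.Helper56.RuK

open Cfsg.Agent.Lib.Helper28.TC

noncomputable section

def hotE2_c0 : ℕ := 0xa03d9934963094399fc18bb189ba893b93be80237d35779f7db798c070ad6d9d8b3c95bf6629641b70335e195aa54d1865af4917522244165b2b3f9480b851a73b93581e773657a06d32339163ae31905dac4caa48a843a629953f243b21248a331c311a1d0d1b081c8f150c100525120d041a8e158708830f8b0c89080603820101
def hotE2 : ℕ := hotE2_c0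
def coldE2_c0 : ℕ := 0xf20000ce0000be0000e27404230000c20000e658041b5c041b68042f44042f00007a0000da0000000000b200007264061f50061f0000a200006a3804230000622a042f00005e34042300005a0000860000560000aa00004e0000de42082300004a0000760000003a082320063f0000421e063f00003e00000000000000000000000014041b00000000000022042f00000000000000003200001e0e04230c042f00001200004600000e04063f16042f00000a00000000000000000002042f00024f
def coldE2 : ℕ := coldE2_c0
def tfT2_c0 : ℕ := 0x3c66bdc4060e5d3d44d0f367eb0e3b7ca0d323090bae2c84aaa26dd3123ad4fb120b47ab529d294468049b323038e16108831a1810a1014080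
def tfT2 : ℕ := tfT2_c0

end

end Cfsg.Agent.Lib.Helper56.RuK
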