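import Cfsg.Agent.Lib.Helper28.TCCheck
import Cfsg.Agent.Lib.Helper56.RuK.Pres

set_option autoImplicit false
set_option linter.unusedVariables false

namespace Cfsg.Agent.Lib.Helper56.RuK

open Cfsg.Agent.Lib.Helper28.TC

noncomputable section

def hotE3_c0 : ℕ := 0xa13e9b3b952fa0c190358aad9ac086a385b78234853979a48fbd82b871ae6eb0691b6e3294bf71338a3c5f285c9e50204c1d5eac4516552143187936863a3c9354a64faa38925d2b4ba9359a68b1351c2f8f42a52c8d44a72a15270a3c22381f2008220e2f1921902c171205160b26940d891f910a031706118c0582098705040181
def hotE3 : ℕ := hotE3_c0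
def coldE3_c0 : ℕ := 0xf60000ea0000ba7404270000d20000b266041f00008a0000da460e33120e3300008e5a042b0000de0000b60000be00006a60042b00000038042700000000009e160e3300007e00007230041f00005600008200005e3c041f00000000004a42081f0212330000460000aa18064300006600000020041f00003a30042b00003200000014042b00002600000000000000001e0000360000001a082b00000000001216081f00000006041f00000000000a0c081f000000000006000000000000000253
def coldE3 : ℕ := coldE3_c0
def tfT3_c0 : ℕ := 0x3d74ba03458fd13666e11bc6eb579a62f993b4e74f9c56550176ae4925524552832c0d8e48313141284f071a607960828988200828b0218180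
def tfT3 : ℕ := tfT3_c0

end

end Cfsg.Agent.Lib.Helper56.RuK
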