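import Cfsg.Agent.Lib.Helper28.TCCheck
import Cfsg.Agent.Lib.Helper56.RuK.Pres

set_option autoImplicit false
set_option linter.unusedVariables false

namespace Cfsg.Agent.Lib.Helper56.RuK

open Cfsg.Agent.Lib.Helper28.TC

noncomputable section

def hotE4_c0 : ℕ := 0xa1be9d3a9830a24191398d3c92349cc090bd7ea17ca07b9f749e91bb722c6a9c69b197bf66a8621a611972b359184f254b17672f481653224eaa40243e9352a67e387c377b36743536916a32329061ae60ad58ab4aa947a72a9527943e232309361d321b1d8b1906180514071e0f0f0422920c03148c188e178d0e8a0b8802810202
def hotE4 : ℕ := hotE4_c0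
def coldE4_c0 : ℕ := 0x800a2f0000e60000be0001020000e25804430000ce70062f6c183300008200007e00007a00007678062f640a2f00006e3404435c04435c0a2f0000660000620000ca00005e00009200005a0000ba0000560000864c062f26043f00004a48062f00000000000026062f00000000004200000000003e0000000000000000000000001410332818331204430000000000220000000000001c0a2f00001600001200103300003a00000e00000000000a00002e000000000000000000000000000002000000
def coldE4 : ℕ := coldE4_c0
def tfT4_c0 : ℕ := 0x3d72be03876cdfbc407cf1d74acdb07c9cc98645d2165c550a946492b76cd5a10623d6ac54a1314268841c34282840c38191042c68c121c001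
def tfT4 : ℕ := tfT4_c0

end

end Cfsg.Agent.Lib.Helper56.RuK
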